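import Groth.Agent.PerfC.TildeFLF
import Groth.Agent.PerfB.FlatPull
import Groth.Agent.PerfB.FreeRank
import Groth.Agent.Desc.FinLocFreeSections

/-!
# Locally free modules of constant rank on opens of affine schemes

* `mem_freeLocus`: if `N~|_V` is locally free of rank `n` then `N` is free at the points of `V`.
* `isFinLocFreeOfRank_of_pullback`: faithfully flat descent of being locally free of rank `n`.
-/

set_option autoImplicit false
universe u
open CategoryTheory CategoryTheory.Limits AlgebraicGeometry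
open scoped TensorProduct

namespace Groth.Agent.Coherent.K98.RankOpen

open Groth.Agent.PerfA.TildeRes Groth.Agent.PerfA.PerfLocal Groth.Agent.PerfA.Restrict
  AlgebraicGeometry.Scheme.Modules

theorem exists_away_equiv (A : Type u) [CommRing A] (N : ModuleCat.{u} A)
    (V : (Spec (CommRingCat.of A)).Opens) (n : ℕ)
    (h : FlatMod.IsFinLocFreeOfRank n ((tilde (R := CommRingCat.of A) N).restrict V.ι))
    (p : PrimeSpectrum A) (hp : (show Spec (CommRingCat.of A) from p) ∈ V) :
    ∃ f : A, f ∉ p.asIdeal ∧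
      Nonempty (LocalizedModule.Away f N ≃ₗ[Localization.Away f] (Fin n → Localization.Away f)) := by
  obtain ⟨U, hU, ⟨e⟩⟩ := h ⟨p, hp⟩
  obtain ⟨f, hf, k, hk, hkU⟩ := PerfA.TildeModel.exists_lift_away (U.ι ≫ V.ι) ⟨⟨p, hp⟩, hU⟩
  refine ⟨f, hf, ⟨?_⟩⟩
  let S : CommRingCat.{u} := CommRingCat.of (Localization.Away f)
  let e1 : tilde (R := S) (ModuleCat.of (Localization.Away f) (Localization.Away f ⊗[A] N)) ≅
      tilde (R := S) (ModuleCat.of (Localization.Away f) (Fin n → Localization.Away f)) :=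
    (tildeRestrictIsoTensor A (Localization.Away f) N).symm ≪≫
      (restrictFunctorCongr hkU.symm).app _ ≪≫ (restrictFunctorComp k (U.ι ≫ V.ι)).app _ ≪≫
      (restrictFunctor k).mapIso ((restrictFunctorComp U.ι V.ι).app _) ≪≫
      (restrictFunctor k).mapIso e ≪≫ freeModRestrict k n ≪≫ (Ega3B.LocFree.tildePiIso S n).symm
  let e2 := (tilde.fullyFaithfulFunctor (R := S)).preimageIso e1
  exact (LocalizedModule.equivTensorProduct (.powers f) N) ≪≫ₗ e2.toLinearEquiv

theorem mem_freeLocus (A : Type u) [CommRing A] [IsNoetherianRing A] (N : Type u) [AddCommGroup N] [Module A N]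
    [Module.Finite A N] (V : (Spec (CommRingCat.of A)).Opens) (n : ℕ)
    (h : FlatMod.IsFinLocFreeOfRank n
      ((tilde (R := CommRingCat.of A) (ModuleCat.of A N)).restrict V.ι))
    (p : PrimeSpectrum A) (hp : (show Spec (CommRingCat.of A) from p) ∈ V) :
    p ∈ Module.freeLocus A N := by
  obtain ⟨f, hf, ⟨e⟩⟩ := exists_away_equiv A (ModuleCat.of A N) V n h p hp
  have := Module.finitePresentation_of_finite A N
  have h1 : (PrimeSpectrum.basicOpen f : Set (PrimeSpectrum A)) ⊆ Module.freeLocus A N := by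
    rw [Module.basicOpen_subset_freeLocus_iff]
    exact Module.Projective.of_equiv e.symm
  exact h1 hf

theorem pull_free {Z T : Scheme.{u}} (a : Z ⟶ T) (U : T.Opens) (ha : Set.range a ⊆ (U : Set T))
    {N : T.Modules} {n : ℕ} (e : N.restrict U.ι ≅ FlatMod.freeMod U n) :
    Nonempty ((Scheme.Modules.pullback a).obj N ≅ FlatMod.freeMod Z n) := by
  let l : Z ⟶ U := IsOpenImmersion.lift U.ι a (by simpa using ha)
  have hl : l ≫ U.ι = a := IsOpenImmersion.lift_fac _ _ _
  exact ⟨(Scheme.Modules.pullbackCongr hl.symm).app N ≪≫ (Scheme.Modules.pullbackComp l U.ι).symm.app N ≪≫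
    (Scheme.Modules.pullback l).mapIso (((Scheme.Modules.restrictFunctorIsoPullback U.ι).symm.app N) ≪≫ e) ≪≫
    PerfB.FlatPull.pullbackFreeMod l n⟩

theorem isFinLocFreeOfRank_of_pullback {X X' : Scheme.{u}} (g : X' ⟶ X) [QuasiCompact g] [Flat g]
    [Surjective g] (F : X.Modules) (hF : Coh.IsQCoh F) (n : ℕ)
    (h : FlatMod.IsFinLocFreeOfRank n ((Scheme.Modules.pullback g).obj F)) :
    FlatMod.IsFinLocFreeOfRank n F := by
  have h1 : FlatMod.IsFinLocFree F := Desc.FinLocFreeSections.isFinLocFree_of_pullback g F hF fun x => by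
    obtain ⟨U, hx, e⟩ := h x
    exact ⟨U, n, hx, e⟩
  intro x
  obtain ⟨U, m, hx, ⟨e⟩⟩ := h1 x
  obtain ⟨y, rfl⟩ := Surjective.surj (f := g) x
  obtain ⟨W, hy, ⟨e'⟩⟩ := h y
  have hm : m = n := by
    let V : X'.Opens := W ⊓ g ⁻¹ᵁ U
    have hy' : y ∈ V := ⟨hy, hx⟩
    obtain ⟨e₁⟩ := pull_free (V.ι ≫ g) U (by
      rintro _ ⟨v, rfl⟩
      rw [Scheme.Hom.comp_apply]
      exact v.2.2) e
    obtain ⟨e₂⟩ := pull_free V.ι W (by
      rintro _ ⟨v, rfl⟩
      exact v.2.1) e'
    exact PerfB.FreeRank.rank_eq (⟨y, hy'⟩ : V)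
      (e₁.symm ≪≫ (Scheme.Modules.pullbackComp V.ι g).symm.app F ≪≫ e₂)
  subst hm
  exact ⟨U, hx, ⟨e⟩⟩

end Groth.Agent.Coherent.K98.RankOpen
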