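import Groth.Agent.CurvesB.CplMap
import Groth.Agent.PicLoc.K730.AdicQuot

/-!
# The completion of `A` factors through `A → A'` if `A/J^n ≅ A'/J^n A'`

* `bijective_quotientMap`: `A/J^n ≅ Â/J^n Â`.
* `exists_factor`: `A → A'` inducing isomorphisms modulo `J^n` for all `n`; then `A → Â` factors through a
  ring map `A' → Â` which induces isomorphisms modulo all `J^n`.
-/

set_option autoImplicit false
universe u v

namespace Groth.Agent.Coherent.K98.CplFactor

open Groth.Agent.CurvesB

section

variable {A : Type u} [CommRing A] (J : Ideal A)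

theorem ker_evalₐ (hJ : J.FG) (n : ℕ) :
    RingHom.ker (AdicCompletion.evalₐ J n) = (J ^ n).map (algebraMap A (AdicCompletion J A)) := by
  ext x
  have h0 : x ∈ (J ^ n).map (algebraMap A (AdicCompletion J A)) ↔
      x ∈ (J ^ n • ⊤ : Submodule A (AdicCompletion J A)) := by
    rw [Ideal.smul_top_eq_map]
    exact Iff.rfl
  rw [h0, AdicCompletion.pow_smul_top_eq_ker_eval hJ, RingHom.mem_ker, LinearMap.mem_ker]
  have hle : J ^ n • (⊤ : Ideal A) ≤ J ^ n := by simp
  have hge : J ^ n ≤ J ^ n • (⊤ : Ideal A) := by simp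
  constructor
  · intro h
    rw [← AdicCompletion.factor_evalₐ_eq_eval J x hge, h, map_zero]
  · intro h
    rw [← AdicCompletion.factor_eval_eq_evalₐ J x hle, h, map_zero]

theorem bijective_quotientMap (hJ : J.FG) (n : ℕ) :
    Function.Bijective (Ideal.quotientMap (Ideal.map (algebraMap A (AdicCompletion J A)) (J ^ n))
      (algebraMap A (AdicCompletion J A)) Ideal.le_comap_map) := by
  constructor
  · rw [injective_iff_map_eq_zero]
    intro x hx
    obtain ⟨b, rfl⟩ := Ideal.Quotient.mk_surjective x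
    rw [Ideal.quotientMap_mk, Ideal.Quotient.eq_zero_iff_mem, ← ker_evalₐ J hJ, RingHom.mem_ker] at hx
    have h2 : AdicCompletion.evalₐ J n (algebraMap A (AdicCompletion J A) b) =
      Ideal.Quotient.mk (J ^ n) b := AdicCompletion.evalₐ_of J n b
    rw [h2] at hx
    exact hx
  · intro x
    obtain ⟨y, rfl⟩ := Ideal.Quotient.mk_surjective x
    obtain ⟨b, hb⟩ := Ideal.Quotient.mk_surjective (AdicCompletion.evalₐ J n y)
    refine ⟨Ideal.Quotient.mk _ b, ?_⟩
    rw [Ideal.quotientMap_mk]
    refine Ideal.Quotient.eq.2 ?_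
    rw [← ker_evalₐ J hJ, RingHom.mem_ker, map_sub, ← hb, sub_eq_zero]
    exact (AdicCompletion.evalₐ_of J n b)

end

theorem bijective_of_eq {A : Type u} {B : Type v} [CommRing A] [CommRing B] (f : A →+* B) (I : Ideal A)
    {K K' : Ideal B} (hK : K = K') (h : I ≤ K.comap f) (h' : I ≤ K'.comap f)
    (hb : Function.Bijective (Ideal.quotientMap K f h)) : Function.Bijective (Ideal.quotientMap K' f h') := by
  subst hK
  exact hb

/-- `f : A → B`, `g : B → C`: if `A/I ≅ B/I'` and `A/I ≅ C/I''` then `B/I' ≅ C/I''`. -/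
theorem bijective_of_comp {A B C : Type*} [CommRing A] [CommRing B] [CommRing C] (f : A →+* B)
    (g : B →+* C) {I : Ideal A} {I' : Ideal B} {I'' : Ideal C} (h₁ : I ≤ I'.comap f) (h₂ : I' ≤ I''.comap g)
    (h₃ : I ≤ I''.comap (g.comp f)) (hb₁ : Function.Bijective (Ideal.quotientMap I' f h₁))
    (hb₃ : Function.Bijective (Ideal.quotientMap I'' (g.comp f) h₃)) :
    Function.Bijective (Ideal.quotientMap I'' g h₂) := by
  rw [← Function.Bijective.of_comp_iff _ hb₁]
  convert hb₃ using 1
  funext x
  obtain ⟨a, rfl⟩ := Ideal.Quotient.mk_surjective x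
  rfl

theorem exists_factor {A A' : Type u} [CommRing A] [CommRing A'] (φ : A →+* A') (J : Ideal A) (hJ : J.FG)
    (hq : ∀ n : ℕ, Function.Bijective
      (Ideal.quotientMap (Ideal.map φ (J ^ n)) φ Ideal.le_comap_map)) :
    ∃ ψ : A' →+* AdicCompletion J A, ψ.comp φ = algebraMap A (AdicCompletion J A) ∧
      ∀ n : ℕ, Function.Bijective
        (Ideal.quotientMap (Ideal.map ψ ((J.map φ) ^ n)) ψ Ideal.le_comap_map) := by
  have hbij : ∀ n, Function.Bijective (CplMap.quotMap J (J.map φ) φ Ideal.le_comap_map n) := fun n =>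
    bijective_of_eq φ (J ^ n) (Ideal.map_pow φ J n) _ _ (hq n)
  let e := CplMap.equivOfBijective J (J.map φ) φ Ideal.le_comap_map hbij
  let ψ : A' →+* AdicCompletion J A := (e.symm : AdicCompletion (J.map φ) A' →+* _).comp
    (algebraMap A' (AdicCompletion (J.map φ) A'))
  have hψ : ψ.comp φ = algebraMap A (AdicCompletion J A) := by
    ext a : 1
    change e.symm (algebraMap A' (AdicCompletion (J.map φ) A') (φ a)) = _
    rw [← CplMap.equivOfBijective_algebraMap J (J.map φ) φ Ideal.le_comap_map hbij a]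
    exact e.symm_apply_apply _
  refine ⟨ψ, hψ, fun n => ?_⟩
  have hle₃ : J ^ n ≤ (((J.map φ) ^ n).map ψ).comap (ψ.comp φ) := by
    rw [← Ideal.map_le_iff_le_comap, ← Ideal.map_map, Ideal.map_pow]
  refine bijective_of_comp φ ψ (I := J ^ n) (I' := (J.map φ) ^ n) _ _ hle₃ (hbij n) ?_
  · have h := bijective_quotientMap J hJ n
    have h1 : Ideal.map ψ ((J.map φ) ^ n) = Ideal.map (algebraMap A (AdicCompletion J A)) (J ^ n) := by
      rw [← Ideal.map_pow, Ideal.map_map, hψ]
    have h2 : ∀ (f : A →+* AdicCompletion J A) (hf : f = algebraMap A (AdicCompletion J A))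
        (K : Ideal (AdicCompletion J A)) (hK : K = Ideal.map (algebraMap A (AdicCompletion J A)) (J ^ n))
        (hle : J ^ n ≤ K.comap f), Function.Bijective (Ideal.quotientMap K f hle) := by
      rintro f rfl K rfl hle
      exact h
    exact h2 _ hψ _ h1 _

/-- The ideal generated by `J` in the completion is in the Jacobson radical. -/
theorem map_le_jacobson {A : Type u} [CommRing A] (J : Ideal A) (hJ : J.FG) :
    J.map (algebraMap A (AdicCompletion J A)) ≤ (⊥ : Ideal (AdicCompletion J A)).jacobson := by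
  have := K730.AdicQuot.isAdicComplete_map J hJ
  exact IsAdicComplete.le_jacobson_bot _

end Groth.Agent.Coherent.K98.CplFactor
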