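import Mathlib.Algebra.Module.FinitePresentation
import Mathlib.RingTheory.Flat.FaithfullyFlat.Basic
import Mathlib.RingTheory.Flat.FaithfullyFlat.Algebra
import Mathlib.RingTheory.Nakayama
import Mathlib.RingTheory.Noetherian.Orzech
import Mathlib.RingTheory.AdicCompletion.Noetherian

/-!
# Approximation of isomorphisms off `V(b)` along a Zariski pair

`A → A'` faithfully flat with `A' = A + J^n A'`, `J` in the Jacobson radical of the Noetherian ring
`A`, `J^c ≤ b`.  If `G₁`, `G₂` are finitely generated up to `b`-power torsion and become isomorphic over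
`A'`, then they are isomorphic up to `b`-power torsion over `A`.
-/

set_option autoImplicit false
open TensorProduct

universe u v

namespace Groth.Agent.Coherent.K98.ZarApprox

/-- `α` has kernel and cokernel of `b`-power torsion (elementwise). -/
def IsBIso {A : Type*} [CommRing A] (b : Ideal A) {N G : Type*} [AddCommGroup N] [Module A N]
    [AddCommGroup G] [Module A G] (α : N →ₗ[A] G) : Prop :=
  (∀ x : N, α x = 0 → ∃ n : ℕ, ∀ t ∈ b ^ n, t • x = 0) ∧
    ∀ y : G, ∃ n : ℕ, ∀ t ∈ b ^ n, t • y ∈ LinearMap.range α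

section

variable {A : Type u} [CommRing A] {A' : Type v} [CommRing A'] [Algebra A A']

theorem mem_sup {I : Ideal A'} (happ : ∀ a' : A', ∃ a : A, a' - algebraMap A A' a ∈ I)
    {H : Type*} [AddCommGroup H] [Module A H] {H' : Type*} [AddCommGroup H'] [Module A H'] [Module A' H']
    [IsScalarTower A A' H'] (f : H →ₗ[A] H') (hspan : Submodule.span A' (Set.range f) = ⊤) (y : H') :
    ∃ x : H, y - f x ∈ I • (⊤ : Submodule A' H') := by
  have hy : y ∈ Submodule.span A' (Set.range f) := by rw [hspan]; trivial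
  induction hy using Submodule.span_induction with
  | mem y hy => obtain ⟨x, rfl⟩ := hy; exact ⟨x, by simp⟩
  | zero => exact ⟨0, by simp⟩
  | add y z _ _ hy hz =>
    obtain ⟨x, hx⟩ := hy
    obtain ⟨w, hw⟩ := hz
    refine ⟨x + w, ?_⟩
    have : y + z - f (x + w) = (y - f x) + (z - f w) := by rw [map_add]; abel
    rw [this]
    exact Submodule.add_mem _ hx hw
  | smul a' y _ hy =>
    obtain ⟨x, hx⟩ := hy
    obtain ⟨a, ha⟩ := happ a'
    refine ⟨a • x, ?_⟩
    have : a' • y - f (a • x) = a' • (y - f x) + (a' - algebraMap A A' a) • f x := by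
      rw [map_smul, smul_sub, sub_smul, algebraMap_smul]; abel
    rw [this]
    exact Submodule.add_mem _ (Submodule.smul_mem _ _ hx) (Submodule.smul_mem_smul ha trivial)

/-- Approximation of `A'`-linear maps between base changes. -/
theorem exists_approx [IsNoetherianRing A] [Module.Flat A A'] {I : Ideal A'}
    (happ : ∀ a' : A', ∃ a : A, a' - algebraMap A A' a ∈ I)
    {M N : Type*} [AddCommGroup M] [Module A M] [Module.Finite A M] [AddCommGroup N] [Module A N]
    (φ : A' ⊗[A] M →ₗ[A'] A' ⊗[A] N) :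
    ∃ f : M →ₗ[A] N, φ - f.baseChange A' ∈ I • (⊤ : Submodule A' (A' ⊗[A] M →ₗ[A'] A' ⊗[A] N)) := by
  have : Module.FinitePresentation A M := Module.finitePresentation_of_finite A M
  have hb := Module.FinitePresentation.isBaseChange_map A M N A'
  have hspan : Submodule.span A' (Set.range (LinearMap.baseChangeHom A A' M N)) = ⊤ := by
    rw [eq_top_iff]
    rintro y -
    induction y using hb.inductionOn with
    | zero => exact Submodule.zero_mem _
    | tmul x => exact Submodule.subset_span ⟨x, rfl⟩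
    | smul a x hx => exact Submodule.smul_mem _ _ hx
    | add x y hx hy => exact Submodule.add_mem _ hx hy
  obtain ⟨f, hf⟩ := mem_sup happ _ hspan φ
  exact ⟨f, hf⟩

theorem smul_baseChange {G : Type*} [AddCommGroup G] [Module A G] (S : Submodule A G) (a : Ideal A)
    {t : A} (ht : t ∈ a) {z : A' ⊗[A] G} (hz : z ∈ S.baseChange A') :
    t • z ∈ (a • S).baseChange A' := by
  rw [Submodule.baseChange_eq_span] at hz
  induction hz using Submodule.span_induction with
  | mem y hy =>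
    obtain ⟨m, hm, rfl⟩ := hy
    have : t • (TensorProduct.mk A A' G 1 m) = (1 : A') ⊗ₜ[A] (t • m) := by simp
    rw [this]
    exact Submodule.tmul_mem_baseChange_of_mem _ (Submodule.smul_mem_smul ht hm)
  | zero => simp
  | add y z _ _ hy hz => rw [smul_add]; exact Submodule.add_mem _ hy hz
  | smul a' y _ hy => rw [smul_comm]; exact Submodule.smul_mem _ _ hy

theorem map_smul_baseChange_le {G : Type*} [AddCommGroup G] [Module A G] (S : Submodule A G)
    (a : Ideal A) : a.map (algebraMap A A') • S.baseChange A' ≤ (a • S).baseChange A' := by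
  rw [Submodule.smul_le]
  intro r hr w hw
  induction hr using Submodule.span_induction with
  | mem r hr =>
    obtain ⟨t, ht, rfl⟩ := hr
    rw [algebraMap_smul]
    exact smul_baseChange S a ht hw
  | zero => simp
  | add r s _ _ hr hs => rw [add_smul]; exact Submodule.add_mem _ hr hs
  | smul c r _ hr => rw [smul_assoc]; exact Submodule.smul_mem _ _ hr

theorem exists_lift [Module.Flat A A'] {G : Type*} [AddCommGroup G] [Module A G] (M : Submodule A G)
    {P : Type*} [AddCommGroup P] [Module A P] (e : A' ⊗[A] P →ₗ[A'] A' ⊗[A] G)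
    (h : ∀ x : P, e (1 ⊗ₜ x) ∈ M.baseChange A') :
    ∃ e' : A' ⊗[A] P →ₗ[A'] A' ⊗[A] M, (M.subtype.baseChange A') ∘ₗ e' = e := by
  have hj : Function.Injective (M.subtype.baseChange A') := by
    have := Module.Flat.lTensor_preserves_injective_linearMap (M := A') M.subtype M.subtype_injective
    simpa [LinearMap.baseChange_eq_ltensor] using this
  have hr : ∀ z : A' ⊗[A] P, e z ∈ LinearMap.range (M.subtype.baseChange A') := by
    intro z
    induction z with
    | zero => simp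
    | tmul a x =>
      have : a ⊗ₜ[A] x = a • ((1 : A') ⊗ₜ[A] x) := by rw [TensorProduct.smul_tmul', smul_eq_mul, mul_one]
      rw [this, map_smul]
      exact Submodule.smul_mem _ _ (h x)
    | add x y hx hy => rw [map_add]; exact Submodule.add_mem _ hx hy
  refine ⟨(LinearEquiv.ofInjective _ hj).symm.toLinearMap ∘ₗ e.codRestrict _ hr, ?_⟩
  ext x
  simp only [TensorProduct.AlgebraTensorModule.curry_apply, LinearMap.restrictScalars_comp,
    TensorProduct.curry_apply, LinearMap.coe_comp, LinearMap.coe_restrictScalars, Function.comp_apply]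
  have := LinearEquiv.apply_symm_apply (LinearEquiv.ofInjective _ hj) (e.codRestrict _ hr (1 ⊗ₜ x))
  exact congrArg Subtype.val this

theorem exists_approx_sub [IsNoetherianRing A] [Module.Flat A A'] {I : Ideal A'}
    (happ : ∀ a' : A', ∃ a : A, a' - algebraMap A A' a ∈ I)
    {G₁ : Type*} [AddCommGroup G₁] [Module A G₁] {G₂ : Type*} [AddCommGroup G₂] [Module A G₂]
    (N : Submodule A G₁) (M : Submodule A G₂) [Module.Finite A N]
    (e : A' ⊗[A] G₁ →ₗ[A'] A' ⊗[A] G₂) (he : ∀ x ∈ N, e (1 ⊗ₜ x) ∈ M.baseChange A') :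
    ∃ f : N →ₗ[A] M, ∀ (a : Ideal A) (x : N), x ∈ a • (⊤ : Submodule A N) →
      e (1 ⊗ₜ (x : G₁)) - 1 ⊗ₜ (f x : G₂) ∈ I • (a • M).baseChange A' := by
  obtain ⟨e', he'⟩ := exists_lift M (e ∘ₗ N.subtype.baseChange A') (fun x => by
    simpa using he x x.2)
  obtain ⟨f, hf⟩ := exists_approx happ e'
  refine ⟨f, fun a x hx => ?_⟩
  have key : ∀ D ∈ I • (⊤ : Submodule A' (A' ⊗[A] N →ₗ[A'] A' ⊗[A] M)),
      (M.subtype.baseChange A') (D (1 ⊗ₜ x)) ∈ I • (a • M).baseChange A' := by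
    intro D hD
    induction hD using Submodule.smul_induction_on' with
    | smul i hi h _ =>
      rw [LinearMap.smul_apply, map_smul]
      refine Submodule.smul_mem_smul hi ?_
      induction hx using Submodule.smul_induction_on' with
      | smul t ht y _ =>
        have : (1 : A') ⊗ₜ[A] (t • y) = t • ((1 : A') ⊗ₜ[A] y) := by simp
        rw [this, LinearMap.map_smul_of_tower, LinearMap.map_smul_of_tower]
        exact smul_baseChange M a ht ⟨_, rfl⟩
      | add y _ z _ hy hz =>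
        rw [TensorProduct.tmul_add, map_add, map_add]
        exact Submodule.add_mem _ hy hz
    | add D _ D' _ hD hD' =>
      rw [LinearMap.add_apply, map_add]
      exact Submodule.add_mem _ hD hD'
  have h1 := key _ hf
  have h2 : (M.subtype.baseChange A') (e' (1 ⊗ₜ x)) = e (1 ⊗ₜ (x : G₁)) := by
    have := LinearMap.congr_fun he' (1 ⊗ₜ x)
    simpa using this
  rw [LinearMap.sub_apply, map_sub, h2] at h1
  simpa using h1

theorem mem_of_tmul_mem [Module.FaithfullyFlat A A'] {G : Type*} [AddCommGroup G] [Module A G]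
    (S : Submodule A G) (z : G) (h : (1 : A') ⊗ₜ[A] z ∈ S.baseChange A') : z ∈ S := by
  rw [← Submodule.Quotient.mk_eq_zero]
  apply Module.FaithfullyFlat.tensorProduct_mk_injective (A := A) (B := A') (G ⧸ S)
  obtain ⟨w, hw⟩ := h
  have : (S.mkQ.baseChange A') ((1 : A') ⊗ₜ[A] z) = 0 := by
    rw [← hw, ← LinearMap.comp_apply, ← LinearMap.baseChange_comp]
    have : S.mkQ ∘ₗ S.subtype = 0 := by ext; simp
    rw [this]
    simp
  simpa using this

/-- The two halves of the approximated isomorphism compose to `1 + small` on `b^m b^m M₁`. -/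
theorem half [Module.FaithfullyFlat A A'] (J b : Ideal A) (n m : ℕ)
    {G₁ : Type*} [AddCommGroup G₁] [Module A G₁] {G₂ : Type*} [AddCommGroup G₂] [Module A G₂]
    (M₁ : Submodule A G₁) (M₂ : Submodule A G₂) (e : A' ⊗[A] G₁ ≃ₗ[A'] A' ⊗[A] G₂)
    (he : ∀ y ∈ b ^ m • M₂, e.symm (1 ⊗ₜ y) ∈ M₁.baseChange A')
    (f : ↥(b ^ m • M₁) →ₗ[A] M₂)
    (hf : ∀ (a : Ideal A) (x : ↥(b ^ m • M₁)), x ∈ a • (⊤ : Submodule A ↥(b ^ m • M₁)) →
      e (1 ⊗ₜ (x : G₁)) - 1 ⊗ₜ (f x : G₂) ∈ (J ^ n).map (algebraMap A A') • (a • M₂).baseChange A')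
    (g : ↥(b ^ m • M₂) →ₗ[A] M₁)
    (hg : ∀ (a : Ideal A) (x : ↥(b ^ m • M₂)), x ∈ a • (⊤ : Submodule A ↥(b ^ m • M₂)) →
      e.symm (1 ⊗ₜ (x : G₂)) - 1 ⊗ₜ (g x : G₁) ∈
        (J ^ n).map (algebraMap A A') • (a • M₁).baseChange A')
    (x : ↥(b ^ m • M₁)) (hx : x ∈ b ^ m • (⊤ : Submodule A ↥(b ^ m • M₁)))
    (hy : (f x : G₂) ∈ b ^ m • M₂) :
    (g ⟨f x, hy⟩ : G₁) - x ∈ J ^ n • M₁ := by
  apply mem_of_tmul_mem (A' := A')
  refine map_smul_baseChange_le M₁ (J ^ n) ?_
  have h1 := hg ⊤ ⟨f x, hy⟩ (by simp)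
  have h2 := hf (b ^ m) x hx
  have h3 : e.symm (e (1 ⊗ₜ (x : G₁)) - 1 ⊗ₜ (f x : G₂)) ∈
      (J ^ n).map (algebraMap A A') • M₁.baseChange A' := by
    have : (J ^ n).map (algebraMap A A') • (b ^ m • M₂).baseChange A' ≤
        ((J ^ n).map (algebraMap A A') • M₁.baseChange A').comap e.symm.toLinearMap := by
      rw [Submodule.smul_le]
      intro r hr w hw
      rw [Submodule.mem_comap, map_smul]
      refine Submodule.smul_mem_smul hr ?_
      rw [Submodule.baseChange_eq_span] at hw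
      induction hw using Submodule.span_induction with
      | mem y hy' =>
        obtain ⟨y, hy'', rfl⟩ := hy'
        exact he y hy''
      | zero => simp
      | add y z _ _ hy' hz => rw [map_add]; exact Submodule.add_mem _ hy' hz
      | smul c y _ hy' => rw [map_smul]; exact Submodule.smul_mem _ _ hy'
    exact this h2
  rw [map_sub, LinearEquiv.symm_apply_apply] at h3
  rw [Submodule.top_smul] at h1
  have h4 : (1 : A') ⊗ₜ[A] ((g ⟨f x, hy⟩ : G₁) - x) =
      - (e.symm (1 ⊗ₜ (f x : G₂)) - 1 ⊗ₜ (g ⟨f x, hy⟩ : G₁)) -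
        (1 ⊗ₜ[A] (x : G₁) - e.symm (1 ⊗ₜ (f x : G₂))) := by
    rw [TensorProduct.tmul_sub]; abel
  rw [h4]
  exact Submodule.sub_mem _ (Submodule.neg_mem _ h1) h3

theorem mem_smul_of_mem_smul_top {G₁ G₂ : Type*} [AddCommGroup G₁] [Module A G₁] [AddCommGroup G₂]
    [Module A G₂] {N : Submodule A G₁} {M : Submodule A G₂} (f : N →ₗ[A] M) (a : Ideal A) (x : N)
    (hx : x ∈ a • (⊤ : Submodule A N)) : (f x : G₂) ∈ a • M := by
  have h : f x ∈ a • (⊤ : Submodule A M) := by
    have := Submodule.mem_map_of_mem (f := f) hx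
    rw [Submodule.map_smul''] at this
    exact Submodule.smul_mono le_rfl le_top this
  have := Submodule.mem_map_of_mem (f := M.subtype) h
  rwa [Submodule.map_smul'', Submodule.map_top, Submodule.range_subtype] at this

theorem mem_smul_top_iff {G : Type*} [AddCommGroup G] [Module A G] (N : Submodule A G) (a : Ideal A)
    (x : N) : x ∈ a • (⊤ : Submodule A N) ↔ (x : G) ∈ a • N := by
  rw [Submodule.mem_smul_top_iff]

/-- Bijectivity of `g ∘ f` on `b^m b^m M₁`. -/
theorem half_bijective [IsNoetherianRing A] [Module.FaithfullyFlat A A'] (J b : Ideal A) (c m : ℕ)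
    (hJ : J ≤ (⊥ : Ideal A).jacobson) (hJb : J ^ c ≤ b)
    {G₁ : Type*} [AddCommGroup G₁] [Module A G₁] {G₂ : Type*} [AddCommGroup G₂] [Module A G₂]
    (M₁ : Submodule A G₁) (hM₁ : M₁.FG) (M₂ : Submodule A G₂) (e : A' ⊗[A] G₁ ≃ₗ[A'] A' ⊗[A] G₂)
    (he : ∀ y ∈ b ^ m • M₂, e.symm (1 ⊗ₜ y) ∈ M₁.baseChange A')
    (f : ↥(b ^ m • M₁) →ₗ[A] M₂)
    (hf : ∀ (a : Ideal A) (x : ↥(b ^ m • M₁)), x ∈ a • (⊤ : Submodule A ↥(b ^ m • M₁)) →
      e (1 ⊗ₜ (x : G₁)) - 1 ⊗ₜ (f x : G₂) ∈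
        (J ^ (c * (2 * m) + 1)).map (algebraMap A A') • (a • M₂).baseChange A')
    (g : ↥(b ^ m • M₂) →ₗ[A] M₁)
    (hg : ∀ (a : Ideal A) (x : ↥(b ^ m • M₂)), x ∈ a • (⊤ : Submodule A ↥(b ^ m • M₂)) →
      e.symm (1 ⊗ₜ (x : G₂)) - 1 ⊗ₜ (g x : G₁) ∈
        (J ^ (c * (2 * m) + 1)).map (algebraMap A A') • (a • M₁).baseChange A') :
    (∀ x : ↥(b ^ m • M₁), f x = 0 → ∀ t ∈ b ^ m, t • x = 0) ∧
    (∀ x ∈ b ^ m • (b ^ m • M₁), ∃ (y : ↥(b ^ m • M₁)) (hy : (f y : G₂) ∈ b ^ m • M₂),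
      (g ⟨f y, hy⟩ : G₁) = x) := by
  -- the submodule `P` and its endomorphism
  let P : Submodule A ↥(b ^ m • M₁) := b ^ m • ⊤
  have hmem : ∀ x : P, (f x : G₂) ∈ b ^ m • M₂ := fun x => mem_smul_of_mem_smul_top f _ _ x.2
  have hJP : J ^ (c * (2 * m) + 1) • M₁ ≤ J • (b ^ m • (b ^ m • M₁)) := by
    rw [pow_succ', ← Submodule.mul_smul, ← Submodule.mul_smul, mul_assoc, ← pow_add, ← two_mul,
      pow_mul]
    exact Submodule.smul_mono (Ideal.mul_mono_right (Ideal.pow_right_mono hJb _)) le_rfl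
  have hsmall : ∀ x : P, (g ⟨f x, hmem x⟩ : G₁) - x ∈ J • (b ^ m • (b ^ m • M₁)) := fun x =>
    hJP (half J b _ m M₁ M₂ e he f hf g hg x x.2 (hmem x))
  have hP : ∀ x : P, ((x : ↥(b ^ m • M₁)) : G₁) ∈ b ^ m • (b ^ m • M₁) := fun x =>
    (mem_smul_top_iff _ _ _).1 x.2
  have hle : J • (b ^ m • (b ^ m • M₁)) ≤ b ^ m • (b ^ m • M₁) := Submodule.smul_le_right
  let Q : Submodule A G₁ := b ^ m • (b ^ m • M₁)
  have hQ : Q.FG := by
    have : Module.Finite A M₁ := Module.Finite.iff_fg.2 hM₁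
    have : IsNoetherian A M₁ := inferInstance
    exact (isNoetherian_submodule.1 this) _ (Submodule.smul_le_right.trans Submodule.smul_le_right)
  have hQle : Q ≤ b ^ m • M₁ := Submodule.smul_le_right
  let ι : Q →ₗ[A] ↥(b ^ m • M₁) := Submodule.inclusion hQle
  have hι : ∀ x : Q, ι x ∈ P := fun x => (mem_smul_top_iff _ _ _).2 x.2
  let F : Q →ₗ[A] ↥(b ^ m • M₂) :=
    (M₂.subtype ∘ₗ f ∘ₗ ι).codRestrict (b ^ m • M₂) (fun x => hmem ⟨ι x, hι x⟩)
  have hgF : ∀ x : Q, (g (F x) : G₁) - x ∈ J • Q := fun x => hsmall ⟨ι x, hι x⟩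
  let h : Q →ₗ[A] Q := (M₁.subtype ∘ₗ g ∘ₗ F).codRestrict Q (fun x => by
    have h1 := Submodule.add_mem _ (hle (hgF x)) x.2
    simpa using h1)
  have hh : ∀ x : Q, (h x : G₁) = g (F x) := fun x => rfl
  have hsurj : Function.Surjective h := by
    rw [← LinearMap.range_eq_top, eq_top_iff]
    have hfin : Module.Finite A Q := Module.Finite.iff_fg.2 hQ
    refine Submodule.le_of_le_smul_of_le_jacobson_bot hfin.fg_top hJ ?_
    intro x _
    have h1 : x = h x + (x - h x) := by abel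
    rw [h1]
    refine Submodule.add_mem_sup ⟨x, rfl⟩ ?_
    rw [mem_smul_top_iff]
    have := Submodule.neg_mem _ (hgF x)
    simpa [hh] using this
  have hinj : Function.Injective h := by
    have hfin : Module.Finite A Q := Module.Finite.iff_fg.2 hQ
    exact OrzechProperty.injective_of_surjective_endomorphism h hsurj
  refine ⟨fun x hx t ht => ?_, fun x hx => ?_⟩
  · have hq : ((t • x : ↥(b ^ m • M₁)) : G₁) ∈ Q := Submodule.smul_mem_smul ht x.2
    have h0 : h ⟨_, hq⟩ = 0 := by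
      apply Subtype.ext
      rw [hh]
      have : F ⟨_, hq⟩ = 0 := by
        apply Subtype.ext
        change ((f (ι ⟨_, hq⟩) : M₂) : G₂) = 0
        have : ι ⟨_, hq⟩ = t • x := rfl
        rw [this, map_smul, hx]
        simp
      rw [this]
      simp
    have h1 := hinj (h0.trans (map_zero h).symm)
    have h2 := congrArg Subtype.val h1
    exact Subtype.ext h2
  · obtain ⟨q, hq⟩ := hsurj ⟨x, hx⟩
    refine ⟨ι q, hmem ⟨ι q, hι q⟩, ?_⟩
    have := congrArg Subtype.val hq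
    exact this

theorem exists_uniform {b : Ideal A} {G : Type*} [AddCommGroup G] [Module A G] (M : Submodule A G)
    (htors : ∀ x : G, ∃ n : ℕ, ∀ t ∈ b ^ n, t • x ∈ M) (z : A' ⊗[A] G) :
    ∃ n : ℕ, ∀ t ∈ b ^ n, t • z ∈ M.baseChange A' := by
  induction z with
  | zero => exact ⟨0, by simp⟩
  | tmul a x =>
    obtain ⟨n, hn⟩ := htors x
    refine ⟨n, fun t ht => ?_⟩
    rw [← TensorProduct.tmul_smul]
    exact Submodule.tmul_mem_baseChange_of_mem _ (hn t ht)
  | add x y hx hy =>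
    obtain ⟨n, hn⟩ := hx
    obtain ⟨k, hk⟩ := hy
    refine ⟨max n k, fun t ht => ?_⟩
    rw [smul_add]
    exact Submodule.add_mem _ (hn t (Ideal.pow_le_pow_right (le_max_left _ _) ht))
      (hk t (Ideal.pow_le_pow_right (le_max_right _ _) ht))

theorem exists_uniform_fg {b : Ideal A} {G₁ : Type*} [AddCommGroup G₁] [Module A G₁] {G₂ : Type*}
    [AddCommGroup G₂] [Module A G₂] (M₁ : Submodule A G₁) (hM₁ : M₁.FG) (M₂ : Submodule A G₂)
    (htors : ∀ x : G₂, ∃ n : ℕ, ∀ t ∈ b ^ n, t • x ∈ M₂) (e : A' ⊗[A] G₁ →ₗ[A'] A' ⊗[A] G₂) :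
    ∃ n : ℕ, ∀ x ∈ b ^ n • M₁, e (1 ⊗ₜ x) ∈ M₂.baseChange A' := by
  obtain ⟨s, rfl⟩ := hM₁
  have : ∃ n : ℕ, ∀ x ∈ s, ∀ t ∈ b ^ n, t • e (1 ⊗ₜ x) ∈ M₂.baseChange A' := by
    classical
    choose n hn using fun x : G₁ => exists_uniform (A' := A') M₂ htors (e (1 ⊗ₜ x))
    refine ⟨s.sup n, fun x hx t ht => hn x t (Ideal.pow_le_pow_right (Finset.le_sup hx) ht)⟩
  obtain ⟨n, hn⟩ := this
  refine ⟨n, fun x hx => ?_⟩
  induction hx using Submodule.smul_induction_on' with
  | smul t ht y hy =>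
    rw [TensorProduct.tmul_smul, LinearMap.map_smul_of_tower]
    induction hy using Submodule.span_induction with
    | mem y hy => exact hn y hy t ht
    | zero => simp
    | add y z _ _ hy hz => rw [TensorProduct.tmul_add, map_add, smul_add]; exact Submodule.add_mem _ hy hz
    | smul a y _ hy =>
      rw [TensorProduct.tmul_smul, LinearMap.map_smul_of_tower, smul_comm]
      exact Submodule.smul_of_tower_mem _ a hy
  | add y _ z _ hy hz => rw [TensorProduct.tmul_add, map_add]; exact Submodule.add_mem _ hy hz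

/-- **Approximation theorem.** `G₁`, `G₂` finitely generated up to `b`-power torsion, isomorphic over
`A'`: then there are `b`-isomorphisms `G₁ ← N → G₂` over `A`. -/
theorem exists_bIso [IsNoetherianRing A] [Module.FaithfullyFlat A A'] (J b : Ideal A) (c : ℕ)
    (hJ : J ≤ (⊥ : Ideal A).jacobson) (hJb : J ^ c ≤ b)
    (happ : ∀ (n : ℕ) (a' : A'), ∃ a : A, a' - algebraMap A A' a ∈ (J ^ n).map (algebraMap A A'))
    {G₁ : Type*} [AddCommGroup G₁] [Module A G₁] {G₂ : Type*} [AddCommGroup G₂] [Module A G₂]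
    (M₁ : Submodule A G₁) (hM₁ : M₁.FG) (M₂ : Submodule A G₂) (hM₂ : M₂.FG)
    (h₁ : ∀ x : G₁, ∃ n : ℕ, ∀ t ∈ b ^ n, t • x ∈ M₁)
    (h₂ : ∀ x : G₂, ∃ n : ℕ, ∀ t ∈ b ^ n, t • x ∈ M₂)
    (e : A' ⊗[A] G₁ ≃ₗ[A'] A' ⊗[A] G₂) :
    ∃ (N : Submodule A G₁) (f : N →ₗ[A] G₂), N.FG ∧ IsBIso b N.subtype ∧ IsBIso b f := by
  obtain ⟨m₁, hm₁⟩ := exists_uniform_fg (A' := A') M₁ hM₁ M₂ h₂ e.toLinearMap
  obtain ⟨m₂, hm₂⟩ := exists_uniform_fg (A' := A') M₂ hM₂ M₁ h₁ e.symm.toLinearMap
  let m := max m₁ m₂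
  have he₁ : ∀ x ∈ b ^ m • M₁, e (1 ⊗ₜ x) ∈ M₂.baseChange A' := fun x hx =>
    hm₁ x (Submodule.smul_mono (Ideal.pow_le_pow_right (le_max_left _ _)) le_rfl hx)
  have he₂ : ∀ x ∈ b ^ m • M₂, e.symm (1 ⊗ₜ x) ∈ M₁.baseChange A' := fun x hx =>
    hm₂ x (Submodule.smul_mono (Ideal.pow_le_pow_right (le_max_right _ _)) le_rfl hx)
  have hfin₁ : Module.Finite A M₁ := Module.Finite.iff_fg.2 hM₁
  have hfin₂ : Module.Finite A M₂ := Module.Finite.iff_fg.2 hM₂
  have hN₁ : (b ^ m • M₁).FG := (isNoetherian_submodule.1 (inferInstance : IsNoetherian A M₁)) _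
    Submodule.smul_le_right
  have hN₂ : (b ^ m • M₂).FG := (isNoetherian_submodule.1 (inferInstance : IsNoetherian A M₂)) _
    Submodule.smul_le_right
  have hfN₁ : Module.Finite A ↥(b ^ m • M₁) := Module.Finite.iff_fg.2 hN₁
  have hfN₂ : Module.Finite A ↥(b ^ m • M₂) := Module.Finite.iff_fg.2 hN₂
  obtain ⟨f, hf⟩ := exists_approx_sub (happ (c * (2 * m) + 1)) (b ^ m • M₁) M₂ e.toLinearMap he₁
  obtain ⟨g, hg⟩ := exists_approx_sub (happ (c * (2 * m) + 1)) (b ^ m • M₂) M₁ e.symm.toLinearMap he₂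
  have H₁ := half_bijective (A' := A') J b c m hJ hJb M₁ hM₁ M₂ e he₂ f hf g hg
  have H₂ := half_bijective (A' := A') J b c m hJ hJb M₂ hM₂ M₁ e.symm (by simpa using he₁) g hg f
    (by simpa using hf)
  refine ⟨b ^ m • M₁, M₂.subtype ∘ₗ f, hN₁, ⟨fun x hx => ⟨0, ?_⟩, fun y => ?_⟩, ⟨fun x hx => ?_, fun y => ?_⟩⟩
  · have : x = 0 := Subtype.ext (by simpa using hx)
    simp [this]
  · obtain ⟨n, hn⟩ := h₁ y
    refine ⟨m + n, fun t ht => ?_⟩
    rw [pow_add] at ht
    rw [Submodule.range_subtype]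
    induction ht using Submodule.mul_induction_on' with
    | mem_mul_mem r hr s hs =>
      rw [mul_smul]
      exact Submodule.smul_mem_smul hr (hn s hs)
    | add x _ z _ hx hz => rw [add_smul]; exact Submodule.add_mem _ hx hz
  · have hx' : f x = 0 := Subtype.ext (by simpa using hx)
    exact ⟨m, H₁.1 x hx'⟩
  · obtain ⟨n, hn⟩ := h₂ y
    refine ⟨m + m + n, fun t ht => ?_⟩
    have hty : t • y ∈ b ^ m • (b ^ m • M₂) := by
      rw [pow_add, pow_add] at ht
      rw [← Submodule.mul_smul]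
      induction ht using Submodule.mul_induction_on' with
      | mem_mul_mem r hr s hs =>
        rw [mul_smul r s y]
        exact Submodule.smul_mem_smul hr (hn s hs)
      | add x _ z _ hx hz => rw [add_smul]; exact Submodule.add_mem _ hx hz
    obtain ⟨z, hz, hzt⟩ := H₂.2 _ hty
    exact ⟨⟨g z, hz⟩, hzt⟩

end

end Groth.Agent.Coherent.K98.ZarApprox
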