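import Groth.Agent.Ega43.FlatAdic
import Mathlib.RingTheory.Flat.FaithfullyFlat.Basic
import Mathlib.LinearAlgebra.TensorProduct.RightExactness

/-!
# `A → A'` with `A / J^n ≅ A' / J^n A'` and `J`, `JA'` in the radicals is faithfully flat
-/

set_option autoImplicit false
open TensorProduct

universe u

namespace Groth.Agent.Coherent.K98.ZarFlat

variable {A A' : Type u} [CommRing A] [CommRing A'] (φ : A →+* A') (J : Ideal A)

/-- `A' = A + J^n A'`. -/
theorem exists_sub_mem {I : Ideal A}
    (hq : Function.Surjective (Ideal.quotientMap (Ideal.map φ I) φ Ideal.le_comap_map)) (a' : A') :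
    ∃ a : A, a' - φ a ∈ I.map φ := by
  obtain ⟨x, hx⟩ := hq (Ideal.Quotient.mk _ a')
  obtain ⟨a, rfl⟩ := Ideal.Quotient.mk_surjective x
  refine ⟨a, ?_⟩
  rw [Ideal.quotientMap_mk] at hx
  exact Ideal.Quotient.eq.1 hx.symm

theorem bijective_includeLeft [Algebra A A'] (I : Ideal A)
    (hq : Function.Bijective (Ideal.quotientMap (Ideal.map (algebraMap A A') I) (algebraMap A A')
      Ideal.le_comap_map)) :
    Function.Bijective ((TensorProduct.AlgebraTensorModule.mk A (A ⧸ I) (A ⧸ I) A').flip 1) := by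
  constructor
  · let ψ : A ⧸ I →ₐ[A] A' ⧸ I.map (algebraMap A A') :=
      { Ideal.quotientMap (Ideal.map (algebraMap A A') I) (algebraMap A A') Ideal.le_comap_map with
        commutes' := fun a => rfl }
    let L : (A ⧸ I) ⊗[A] A' →ₐ[A] A' ⧸ I.map (algebraMap A A') :=
      Algebra.TensorProduct.lift ψ (IsScalarTower.toAlgHom A A' _) (fun _ _ => Commute.all _ _)
    have h : ∀ x : A ⧸ I, L (x ⊗ₜ 1) = ψ x := fun x => by simp [L]
    intro x y hxy
    apply hq.1
    have := congrArg L hxy
    change L (x ⊗ₜ 1) = L (y ⊗ₜ 1) at this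
    rw [h, h] at this
    exact this
  · intro z
    induction z with
    | zero => exact ⟨0, by simp⟩
    | add x y hx hy =>
      obtain ⟨a, rfl⟩ := hx
      obtain ⟨b, rfl⟩ := hy
      exact ⟨a + b, by rw [map_add]⟩
    | tmul x a' =>
      obtain ⟨a, ha⟩ := exists_sub_mem (algebraMap A A') hq.2 a'
      refine ⟨a • x, ?_⟩
      change (a • x) ⊗ₜ[A] (1 : A') = x ⊗ₜ a'
      rw [TensorProduct.smul_tmul]
      have h0 : ∀ w ∈ I.map (algebraMap A A'), x ⊗ₜ[A] w = 0 := by
        intro w hw
        rw [Ideal.map] at hw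
        induction hw using Submodule.span_induction with
        | mem w hw =>
          obtain ⟨i, hi, rfl⟩ := hw
          obtain ⟨r, rfl⟩ := Ideal.Quotient.mk_surjective x
          rw [Algebra.algebraMap_eq_smul_one, ← TensorProduct.smul_tmul]
          have : i • (Ideal.Quotient.mk I r) = 0 := by
            rw [Algebra.smul_def, Ideal.Quotient.algebraMap_eq, ← map_mul, Ideal.Quotient.eq_zero_iff_mem]
            exact Ideal.mul_mem_right _ _ hi
          rw [this, TensorProduct.zero_tmul]
        | zero => simp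
        | add w z _ _ hw hz => rw [TensorProduct.tmul_add, hw, hz, add_zero]
        | smul c w _ hw =>
          have : x ⊗ₜ[A] (c • w) = (1 ⊗ₜ[A] c : (A ⧸ I) ⊗[A] A') * (x ⊗ₜ[A] w) := by
            simp [Algebra.TensorProduct.tmul_mul_tmul]
          rw [this, hw, mul_zero]
      have h1 := h0 _ ha
      rw [TensorProduct.tmul_sub, sub_eq_zero, Algebra.algebraMap_eq_smul_one] at h1
      exact h1.symm

theorem flat [Algebra A A'] [IsNoetherianRing A] [IsNoetherianRing A']
    (hJ' : J.map (algebraMap A A') ≤ (⊥ : Ideal A').jacobson)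
    (hq : ∀ n : ℕ, Function.Bijective
      (Ideal.quotientMap (Ideal.map (algebraMap A A') (J ^ n)) (algebraMap A A') Ideal.le_comap_map)) :
    Module.Flat A A' := by
  refine Ega43.FlatAdic.flat_of_forall_flat_quotient_pow (S := A') J hJ' fun n => ?_
  exact Module.Flat.of_linearEquiv (LinearEquiv.ofBijective _ (bijective_includeLeft (J ^ n) (hq n))).symm

theorem faithfullyFlat [Algebra A A'] [IsNoetherianRing A] [IsNoetherianRing A']
    (hJ : J ≤ (⊥ : Ideal A).jacobson)
    (hJ' : J.map (algebraMap A A') ≤ (⊥ : Ideal A').jacobson)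
    (hq : ∀ n : ℕ, Function.Bijective
      (Ideal.quotientMap (Ideal.map (algebraMap A A') (J ^ n)) (algebraMap A A') Ideal.le_comap_map)) :
    Module.FaithfullyFlat A A' := by
  have := flat J hJ' hq
  refine ⟨fun m hm htop => ?_⟩
  have hJm : J ^ 1 ≤ m := by
    rw [pow_one]
    exact hJ.trans (sInf_le ⟨bot_le, hm⟩)
  have h1 : m.map (algebraMap A A') = ⊤ := by
    rw [Ideal.smul_top_eq_map] at htop
    exact (Submodule.restrictScalars_eq_top_iff _ _ _).1 htop
  have h2 : (m.map (Ideal.Quotient.mk (J ^ 1))).map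
      (Ideal.quotientMap (Ideal.map (algebraMap A A') (J ^ 1)) (algebraMap A A') Ideal.le_comap_map) =
      ⊤ := by
    rw [Ideal.map_map, Ideal.quotientMap_comp_mk, ← Ideal.map_map, h1, Ideal.map_top]
  have h3 := congrArg (Ideal.comap (Ideal.quotientMap (Ideal.map (algebraMap A A') (J ^ 1))
    (algebraMap A A') Ideal.le_comap_map)) h2
  rw [Ideal.comap_map_of_bijective _ (hq 1), Ideal.comap_top] at h3
  have h4 : m = ⊤ := by
    have := congrArg (Ideal.comap (Ideal.Quotient.mk (J ^ 1))) h3
    rwa [Ideal.comap_map_mk hJm, Ideal.comap_top] at this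
  exact hm.ne_top h4

end Groth.Agent.Coherent.K98.ZarFlat
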