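import Groth.Agent.Coherent.K98.ZarApprox
import Groth.Agent.Ega1.ExtendAff2
import Groth.Agent.FormalA.TildeOpen
import Groth.Agent.FGA.K275.PushBC
import Groth.Agent.S2265

/-!
# Coherent modules on an open of `Spec A` which become isomorphic over a Zariski pair extension

`isoOfIso`: `A → A'` faithfully flat, `A` Noetherian, `A' = A + J^n A'` for all `n`, `J` in the Jacobson
radical of `A`, `U ⊇ Spec A ∖ V(J)`: coherent `O_U`-modules whose pullbacks to `U ×_A A'` are isomorphic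
are isomorphic.
-/

set_option autoImplicit false
universe u

open AlgebraicGeometry CategoryTheory CategoryTheory.Limits Opposite TopologicalSpace TensorProduct

namespace Groth.Agent.Coherent.K98.ZarSheaf

open Groth.Agent.CohqB Groth.Agent.Ega1 ZarApprox

variable {R : CommRingCat.{u}}

theorem exists_model [IsNoetherianRing R] (V : (Spec R).Opens) {κ : Type*} [Finite κ] (a : κ → R)
    (ha : V = ⨆ i, PrimeSpectrum.basicOpen (a i)) (F : (V : Scheme.{u}).Modules) (hF : Coh.IsCoh F) :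
    ∃ (G : ModuleCat.{u} R) (M : Submodule R G), M.FG ∧
      (∀ x : G, ∃ n : ℕ, ∀ t ∈ Ideal.span (Set.range a) ^ n, t • x ∈ M) ∧
      Nonempty ((Scheme.Modules.pushforward V.ι).obj F ≅ tilde G) := by
  have hq : Coh.IsQCoh F := hF.1
  have : CompactSpace V := isCompact_iff_compactSpace.mp (NoetherianSpace.isCompact (V : Set (Spec R)))
  let N : (Spec R).Modules := (Scheme.Modules.pushforward V.ι).obj F
  have hN : Coh.IsQCoh N := QcqsPush.isQCoh_pushforward V.ι F hF.1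
  let G : ModuleCat.{u} R := (modulesSpecToSheaf.obj N).presheaf.obj (.op ⊤)
  have haV : ∀ i, (PrimeSpectrum.basicOpen (a i) : (Spec R).Opens) ≤ V := fun i ↦ by
    rw [ha]; exact le_iSup (fun k ↦ PrimeSpectrum.basicOpen (a k)) i
  have key : ∀ i : κ, ∃ P : Submodule R G, P.FG ∧ ∀ m : G, ∃ k : ℕ, a i ^ k • m ∈ P := by
    intro i
    have h1 : Module.Finite Γ(Spec R, PrimeSpectrum.basicOpen (a i))
        Γ(N, PrimeSpectrum.basicOpen (a i)) := by
      refine ExtendAff2.finite_pushforward V F hF _ ?_ (haV i)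
      rw [← basicOpen_eq_of_affine]
      exact (isAffineOpen_top (Spec R)).basicOpen _
    exact ExtendAff.exists_fg_of_finite (a i) Γ(Spec R, PrimeSpectrum.basicOpen (a i))
      (FiniteType2.resLinear N (PrimeSpectrum.basicOpen (a i)))
      (hφ := FiniteType2.isLocalizedModule_resLinear N (a i))
  choose P hP hPa using key
  refine ⟨G, ⨆ i, P i, Submodule.fg_iSup P hP, fun x => ?_, ⟨(asIso N.fromTildeΓ).symm⟩⟩
  have hfg : (Ideal.span (Set.range a)).FG := Submodule.fg_span (Set.finite_range a)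
  let K : Ideal R := (⨆ i, P i).comap (LinearMap.toSpanSingleton R G x)
  have hrad : Ideal.span (Set.range a) ≤ K.radical := by
    rw [Ideal.span_le]
    rintro _ ⟨i, rfl⟩
    obtain ⟨k, hk⟩ := hPa i x
    exact ⟨k, (le_iSup P i) hk⟩
  obtain ⟨n, hn⟩ := Ideal.exists_pow_le_of_le_radical_of_fg hrad hfg
  exact ⟨n, fun t ht => hn ht⟩

theorem isIso_restrict {P G : ModuleCat.{u} R} (f : P →ₗ[R] G) {ι : Type*} (a : ι → R)
    (V : (Spec R).Opens) (ha : V = ⨆ i, PrimeSpectrum.basicOpen (a i))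
    (hf : IsBIso (Ideal.span (Set.range a)) f) :
    IsIso ((Scheme.Modules.restrictFunctor V.ι).map (tilde.map (ModuleCat.ofHom f))) := by
  have hmem : ∀ (i : ι) (n : ℕ), a i ^ n ∈ Ideal.span (Set.range a) ^ n := fun i n =>
    Ideal.pow_mem_pow (Ideal.subset_span (Set.mem_range_self i)) n
  refine FormalA.TildeOpen.isIso_restrict_map' (ModuleCat.ofHom f) a V ha.le (fun i x hx => ?_)
    fun i m => ?_
  · obtain ⟨n, hn⟩ := hf.1 x hx
    exact ⟨n, hn _ (hmem i n)⟩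
  · obtain ⟨n, hn⟩ := hf.2 m
    obtain ⟨p, hp⟩ := hn _ (hmem i n)
    exact ⟨n, p, hp.symm⟩

theorem le_radical_of (A : Type u) [CommRing A] (J : Ideal A) (U : (Spec (CommRingCat.of A)).Opens)
    (hU : ∀ p : PrimeSpectrum A, ¬ J ≤ p.asIdeal → p ∈ U) {κ : Type*} (a : κ → A)
    (ha : U = ⨆ i, PrimeSpectrum.basicOpen (R := A) (a i)) : J ≤ (Ideal.span (Set.range a)).radical := by
  rw [Ideal.radical_eq_sInf]
  refine le_sInf fun p hp => ?_
  by_contra hJp
  have := hp.2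
  have hmem := hU ⟨p, hp.2⟩ hJp
  rw [ha] at hmem
  obtain ⟨i, hi⟩ := Opens.mem_iSup.1 hmem
  exact hi (hp.1 (Ideal.subset_span ⟨i, rfl⟩))

/-- The isomorphism `E ≅ (G~)|U` given `j_* E ≅ G~`. -/
noncomputable def resIso {V : (Spec R).Opens} {E : (V : Scheme.{u}).Modules} {G : ModuleCat.{u} R}
    (e : (Scheme.Modules.pushforward V.ι).obj E ≅ tilde G) :
    (Scheme.Modules.restrictFunctor V.ι).obj (tilde G) ≅ E :=
  (Scheme.Modules.restrictFunctor V.ι).mapIso e.symm ≪≫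
    (Scheme.Modules.restrictFunctorAdjCounitIso V.ι).app E

theorem nonempty_iso (A A' : Type u) [CommRing A] [CommRing A'] [Algebra A A'] [IsNoetherianRing A]
    [Module.FaithfullyFlat A A'] (J : Ideal A) (hJ : J ≤ (⊥ : Ideal A).jacobson)
    (happ : ∀ (n : ℕ) (a' : A'), ∃ a : A, a' - algebraMap A A' a ∈ (J ^ n).map (algebraMap A A'))
    (U : (Spec (CommRingCat.of A)).Opens)
    (hU : ∀ p : PrimeSpectrum A, ¬ J ≤ p.asIdeal → p ∈ U)
    (E₁ E₂ : (U : Scheme.{u}).Modules) (h₁ : Coh.IsCoh E₁) (h₂ : Coh.IsCoh E₂)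
    (hiso : Nonempty ((Scheme.Modules.pullback
        ((Spec.map (CommRingCat.ofHom (algebraMap A A'))) ∣_ U)).obj E₁ ≅
      (Scheme.Modules.pullback ((Spec.map (CommRingCat.ofHom (algebraMap A A'))) ∣_ U)).obj E₂)) :
    Nonempty (E₁ ≅ E₂) := by
  have : IsNoetherianRing (CommRingCat.of A) := ‹_›
  have hcomp := NoetherianSpace.isCompact (U : Set (Spec (CommRingCat.of A)))
  obtain ⟨κ, hκ, a, ha⟩ := PrimeSpectrum.isBasis_basic_opens.exists_iSup_eq_of_isCompact U hcomp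
  obtain ⟨G₁, M₁, hM₁, ht₁, ⟨e₁⟩⟩ := exists_model U a ha E₁ h₁
  obtain ⟨G₂, M₂, hM₂, ht₂, ⟨e₂⟩⟩ := exists_model U a ha E₂ h₂
  obtain ⟨ε⟩ := hiso
  have : CompactSpace U := isCompact_iff_compactSpace.mp hcomp
  let g := Spec.map (CommRingCat.ofHom (algebraMap A A'))
  have hflat : Flat g := by
    rw [HasRingHomProperty.Spec_iff (P := @Flat)]
    exact RingHom.flat_algebraMap_iff.2 inferInstance
  obtain ⟨p₁⟩ := K275.PushBC.nonempty_push_iso (isPullback_morphismRestrict g U) E₁ h₁.1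
  obtain ⟨p₂⟩ := K275.PushBC.nonempty_push_iso (isPullback_morphismRestrict g U) E₂ h₂.1
  obtain ⟨t₁⟩ := S2265.result A A' G₁
  obtain ⟨t₂⟩ := S2265.result A A' G₂
  let ι : tilde (ModuleCat.of A' (A' ⊗[A] G₁)) ≅ tilde (ModuleCat.of A' (A' ⊗[A] G₂)) :=
    t₁.symm ≪≫ (Scheme.Modules.pullback g).mapIso e₁.symm ≪≫ p₁ ≪≫
      (Scheme.Modules.pushforward (g ⁻¹ᵁ U).ι).mapIso ε ≪≫ p₂.symm ≪≫
      (Scheme.Modules.pullback g).mapIso e₂ ≪≫ t₂
  let e : A' ⊗[A] G₁ ≃ₗ[A'] A' ⊗[A] G₂ :=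
    ((tilde.fullyFaithfulFunctor (R := CommRingCat.of A')).preimageIso
      (X := ModuleCat.of A' (A' ⊗[A] G₁)) (Y := ModuleCat.of A' (A' ⊗[A] G₂)) ι).toLinearEquiv
  have hJr : J ≤ (Ideal.span (Set.range a)).radical := le_radical_of A J U hU a ha
  obtain ⟨c, hc⟩ := Ideal.exists_pow_le_of_le_radical_of_fg hJr ((isNoetherianRing_iff_ideal_fg A).1 ‹_› J)
  obtain ⟨N, f, -, hα, hβ⟩ := exists_bIso (A := A) (A' := A') J (Ideal.span (Set.range a)) c hJ hc happ
    M₁ hM₁ M₂ hM₂ ht₁ ht₂ e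
  have i₁ := isIso_restrict (R := CommRingCat.of A) (P := ModuleCat.of A N) (G := G₁) N.subtype a U ha hα
  have i₂ := isIso_restrict (R := CommRingCat.of A) (P := ModuleCat.of A N) (G := G₂) f a U ha hβ
  exact ⟨(resIso e₁).symm ≪≫ (asIso ((Scheme.Modules.restrictFunctor U.ι).map
      (tilde.map (R := CommRingCat.of A) (ModuleCat.ofHom N.subtype)))).symm ≪≫
    asIso ((Scheme.Modules.restrictFunctor U.ι).map
      (tilde.map (R := CommRingCat.of A) (ModuleCat.ofHom f))) ≪≫ resIso e₂⟩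

end Groth.Agent.Coherent.K98.ZarSheaf
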